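import Groth.Prelude.Def_W4c2filtblowupsingRees
import Mathlib.RingTheory.Valuation.Basic
import Mathlib.RingTheory.Polynomial.IsIntegral
import Mathlib.RingTheory.IntegralClosure.IntegrallyClosed

/-!
# Rees algebras of valuation filtrations are integrally closed
-/

set_option autoImplicit false
set_option maxHeartbeats 400000
universe u

open Polynomial

noncomputable section

namespace Groth.Agent.ReesIC29

variable {A : Type u} [CommRing A] [IsDomain A] (w : AddValuation A (WithTop ℤ)) (q p : ℕ)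

/-- `q·w(a) ≥ c`. -/
def G (c : ℤ) (a : A) : Prop := ∀ z : ℤ, w a = z → c ≤ q * z

variable {w q p}

theorem G_zero (c : ℤ) : G w q c 0 := fun z h => by rw [AddValuation.map_zero] at h; exact absurd h (WithTop.top_ne_coe)

theorem G.mono {c c' : ℤ} {a : A} (h : G w q c a) (hc : c' ≤ c) : G w q c' a := fun z hz => hc.trans (h z hz)

theorem G.add {c : ℤ} {a b : A} (ha : G w q c a) (hb : G w q c b) : G w q c (a + b) := by
  intro z hz
  rcases w.map_add' a b with h | h <;> rw [hz] at h
  · cases ea : w a with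
    | top => rw [ea] at h; exact absurd (top_le_iff.1 h) WithTop.coe_ne_top
    | coe za =>
      rw [ea, WithTop.coe_le_coe] at h
      exact (ha za ea).trans (mul_le_mul_of_nonneg_left h (Int.natCast_nonneg q))
  · cases eb : w b with
    | top => rw [eb] at h; exact absurd (top_le_iff.1 h) WithTop.coe_ne_top
    | coe zb =>
      rw [eb, WithTop.coe_le_coe] at h
      exact (hb zb eb).trans (mul_le_mul_of_nonneg_left h (Int.natCast_nonneg q))

theorem G.sum {c : ℤ} {ι : Type*} (s : Finset ι) (f : ι → A) (h : ∀ i ∈ s, G w q c (f i)) : G w q c (∑ i ∈ s, f i) :=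
  Finset.sum_induction _ _ (fun _ _ => G.add) (G_zero c) h

theorem G.mul {c c' : ℤ} {a b : A} (ha : G w q c a) (hb : G w q c' b) : G w q (c + c') (a * b) := by
  intro z hz
  rw [w.map_mul] at hz
  cases ea : w a with
  | top => rw [ea, WithTop.top_add] at hz; exact absurd hz WithTop.top_ne_coe
  | coe za =>
    cases eb : w b with
    | top => rw [eb, WithTop.add_top] at hz; exact absurd hz WithTop.top_ne_coe
    | coe zb =>
      rw [ea, eb, ← WithTop.coe_add, WithTop.coe_inj] at hz
      rw [← hz, mul_add]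
      exact add_le_add (ha za ea) (hb zb eb)

theorem G.neg {c : ℤ} {a : A} (ha : G w q c a) : G w q c (-a) := fun z hz => ha z (by rw [← hz, w.map_neg])

variable (w q p) in
/-- Bound on all coefficients. -/
def P (m : ℤ) (f : A[X]) : Prop := ∀ n : ℕ, G w q (m + n * p) (f.coeff n)

theorem P.mul {m m' : ℤ} {f g : A[X]} (hf : P w q p m f) (hg : P w q p m' g) : P w q p (m + m') (f * g) := by
  intro n
  rw [coeff_mul]
  refine G.sum _ _ fun x hx => ((hf x.1).mul (hg x.2)).mono (le_of_eq ?_)
  rw [← Finset.mem_antidiagonal.1 hx]; push_cast; ring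

theorem P.add {m : ℤ} {f g : A[X]} (hf : P w q p m f) (hg : P w q p m g) : P w q p m (f + g) :=
  fun n => by rw [coeff_add]; exact (hf n).add (hg n)

theorem P.zero (m : ℤ) : P w q p m (0 : A[X]) := fun n => by rw [coeff_zero]; exact G_zero _

theorem P.mono {m m' : ℤ} {f : A[X]} (h : P w q p m f) (hm : m' ≤ m) : P w q p m' f :=
  fun n => (h n).mono (by omega)

variable (w q p) in
/-- The bound is attained first at `N`. -/
def E (m : ℤ) (N : ℕ) (f : A[X]) : Prop :=
  P w q p m f ∧ (∃ z : ℤ, w (f.coeff N) = z ∧ (q : ℤ) * z = m + N * p) ∧ ∀ n < N, G w q (m + n * p + 1) (f.coeff n)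

theorem E.mul {m m' : ℤ} {N N' : ℕ} {f g : A[X]} (hf : E w q p m N f) (hg : E w q p m' N' g) :
    E w q p (m + m') (N + N') (f * g) := by
  refine ⟨hf.1.mul hg.1, ?_, ?_⟩
  · obtain ⟨za, ea, ha⟩ := hf.2.1
    obtain ⟨zb, eb, hb⟩ := hg.2.1
    refine ⟨za + zb, ?_, by rw [mul_add, ha, hb]; push_cast; ring⟩
    have hmem : (N, N') ∈ Finset.antidiagonal (N + N') := Finset.mem_antidiagonal.2 rfl
    rw [coeff_mul, ← Finset.add_sum_erase _ _ hmem]
    have hmain : w (f.coeff N * g.coeff N') = ((za + zb : ℤ) : WithTop ℤ) := by rw [w.map_mul, ea, eb, WithTop.coe_add]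
    rw [AddValuation.map_add_eq_of_lt_left, hmain]
    rw [hmain]
    have hrest : G w q (m + m' + (N + N' : ℕ) * p + 1)
        (∑ x ∈ (Finset.antidiagonal (N + N')).erase (N, N'), f.coeff x.1 * g.coeff x.2) := by
      refine G.sum _ _ fun x hx => ?_
      obtain ⟨hne, hx⟩ := Finset.mem_erase.1 hx
      have hsum := Finset.mem_antidiagonal.1 hx
      rw [← hsum]
      rcases Nat.lt_or_ge x.1 N with h | h
      · exact ((hf.2.2 x.1 h).mul (hg.1 x.2)).mono (le_of_eq (by push_cast; ring))
      · have : x.2 < N' := by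
          by_contra h'
          exact hne (Prod.ext (by dsimp; omega) (by dsimp; omega))
        exact ((hf.1 x.1).mul (hg.2.2 x.2 this)).mono (le_of_eq (by push_cast; ring))
    cases es : w (∑ x ∈ (Finset.antidiagonal (N + N')).erase (N, N'), f.coeff x.1 * g.coeff x.2) with
    | top => exact WithTop.coe_lt_top _
    | coe zs =>
      have := hrest zs es
      rw [WithTop.coe_lt_coe]
      by_contra hh
      have := mul_le_mul_of_nonneg_left (not_lt.1 hh) (Int.natCast_nonneg q)
      rw [mul_add, ha, hb] at this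
      push_cast at *
      linarith
  · intro n hn
    rw [coeff_mul]
    refine G.sum _ _ fun x hx => ?_
    have hsum := Finset.mem_antidiagonal.1 hx
    rw [← hsum]
    rcases Nat.lt_or_ge x.1 N with h | h
    · exact ((hf.2.2 x.1 h).mul (hg.1 x.2)).mono (le_of_eq (by push_cast; ring))
    · exact ((hf.1 x.1).mul (hg.2.2 x.2 (by omega))).mono (le_of_eq (by push_cast; ring))

theorem E.not_P {m m' : ℤ} {N : ℕ} {f : A[X]} (hf : E w q p m N f) (hlt : m < m') : ¬ P w q p m' f := by
  intro h
  obtain ⟨z, ez, hz⟩ := hf.2.1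
  have := h N z ez
  omega

theorem one_E : E w q p 0 0 (1 : A[X]) := by
  refine ⟨fun n => ?_, ⟨0, by simp [w.map_one], by simp⟩, fun n hn => absurd hn (Nat.not_lt_zero n)⟩
  rcases eq_or_ne n 0 with rfl | hn
  · intro z hz
    rw [coeff_one_zero, w.map_one] at hz
    simp [show z = 0 from (WithTop.coe_eq_zero.1 hz.symm)]
  · rw [coeff_one, if_neg hn]; exact G_zero _

theorem E.pow {m : ℤ} {N : ℕ} {f : A[X]} (hf : E w q p m N f) : ∀ j : ℕ, E w q p (j * m) (j * N) (f ^ j)
  | 0 => by simpa using one_E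
  | j + 1 => by
    rw [pow_succ, Nat.cast_succ, add_mul, one_mul, Nat.succ_mul]
    exact (E.pow hf j).mul hf

theorem exists_E {f : A[X]} (htop : ∀ a : A, w a = ⊤ → a = 0) (hf : f ≠ 0) : ∃ m N, E w q p m N f := by
  classical
  have hv : ∀ n ∈ f.support, ∃ z : ℤ, w (f.coeff n) = z := fun n hn => by
    cases e : w (f.coeff n) with
    | top => exact absurd (htop _ e) (mem_support_iff.1 hn)
    | coe z => exact ⟨z, rfl⟩
  choose! z hz using hv
  have hS : f.support.Nonempty := nonempty_support_iff.2 hf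
  let m := (f.support.image fun n => (q : ℤ) * z n - n * p).min' (hS.image _)
  let T := f.support.filter fun n => (q : ℤ) * z n - n * p = m
  have hT : T.Nonempty := by
    obtain ⟨n, hn, e⟩ := Finset.mem_image.1 (Finset.min'_mem _ (hS.image fun n => (q : ℤ) * z n - n * p))
    exact ⟨n, Finset.mem_filter.2 ⟨hn, e⟩⟩
  have hle : ∀ n ∈ f.support, m ≤ (q : ℤ) * z n - n * p := fun n hn =>
    Finset.min'_le _ _ (Finset.mem_image.2 ⟨n, hn, rfl⟩)
  refine ⟨m, T.min' hT, fun n => ?_, ?_, fun n hn => ?_⟩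
  · by_cases h : n ∈ f.support
    · intro z' hz'
      rw [hz n h, WithTop.coe_inj] at hz'
      have := hle n h
      subst hz'; omega
    · rw [notMem_support_iff.1 h]; exact G_zero _
  · obtain ⟨h1, h2⟩ := Finset.mem_filter.1 (T.min'_mem hT)
    exact ⟨z _, hz _ h1, by omega⟩
  · by_cases h : n ∈ f.support
    · intro z' hz'
      rw [hz n h, WithTop.coe_inj] at hz'
      have := hle n h
      have hne : (q : ℤ) * z n - n * p ≠ m := fun e =>
        absurd (T.min'_le n (Finset.mem_filter.2 ⟨h, e⟩)) (not_le.2 hn)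
      subst hz'; omega
    · rw [notMem_support_iff.1 h]; exact G_zero _

/-- An element integral over coefficients of nonnegative value has nonnegative value. -/
theorem P_of_root (htop : ∀ a : A, w a = ⊤ → a = 0) {f : A[X]} {d : ℕ} (c : ℕ → A[X])
    (hc : ∀ j, P w q p 0 (c j)) (h : f ^ d + ∑ j ∈ Finset.range d, c j * f ^ j = 0) : P w q p 0 f := by
  by_cases hf : f = 0
  · rw [hf]; exact P.zero 0
  obtain ⟨m, N, hE⟩ := exists_E (q := q) (p := p) htop hf
  by_cases hm : 0 ≤ m
  · exact hE.1.mono hm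
  exfalso
  have hsum : P w q p ((d : ℤ) * m + 1) (∑ j ∈ Finset.range d, c j * f ^ j) := by
    refine Finset.sum_induction _ (P w q p ((d : ℤ) * m + 1)) (fun _ _ => P.add) (P.zero _) fun j hj => ?_
    refine ((hc j).mul (E.pow hE j).1).mono ?_
    have hj' : (j : ℤ) + 1 ≤ d := by exact_mod_cast Finset.mem_range.1 hj
    have := mul_le_mul_of_nonpos_right hj' (show m ≤ 0 by omega)
    rw [add_mul, one_mul] at this
    omega
  refine (E.pow hE d).not_P (lt_add_one _) ?_
  rw [eq_neg_of_add_eq_zero_left h]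
  exact fun n => by rw [coeff_neg]; exact (hsum n).neg

theorem exists_preimage {R B KR L : Type u} [CommRing R] [IsDomain R] [CommRing B] [IsDomain B]
    [IsIntegrallyClosed B] [Field KR] [Algebra R KR] [IsFractionRing R KR] [Field L] [Algebra B L] [IsFractionRing B L]
    (φ : R →+* B) (hφ : Function.Injective φ)
    (H : ∀ (f : B) (Q : R[X]), Q.Monic → Polynomial.eval₂ φ f Q = 0 → ∃ r, φ r = f) {x : KR}
    (hx : IsIntegral R x) : ∃ y, algebraMap R KR y = x := by
  have hinj : Function.Injective ((algebraMap B L).comp φ) := (IsFractionRing.injective B L).comp hφ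
  let g : KR →+* L := IsFractionRing.lift hinj
  have hg : g.comp (algebraMap R KR) = (algebraMap B L).comp φ :=
    RingHom.ext fun r => IsFractionRing.lift_algebraMap hinj r
  obtain ⟨Q, hQm, hQx⟩ := hx
  have h1 : Polynomial.eval₂ ((algebraMap B L).comp φ) (g x) Q = 0 := by
    have := congrArg g hQx
    rwa [map_zero, Polynomial.hom_eval₂, hg] at this
  obtain ⟨f, hf⟩ := IsIntegrallyClosed.algebraMap_eq_of_integral (R := B) (K := L)
    (x := g x) ⟨Q.map φ, hQm.map _, by rw [eval₂_map]; exact h1⟩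
  obtain ⟨r, hr⟩ := H f Q hQm (IsFractionRing.injective B L (by rw [map_zero, Polynomial.hom_eval₂, hf]; exact h1))
  refine ⟨r, g.injective ?_⟩
  have h3 : g (algebraMap R KR r) = algebraMap B L (φ r) := RingHom.congr_fun hg r
  rw [h3, hr, hf]

theorem isIntegrallyClosed_of_injective {R B : Type u} [CommRing R] [IsDomain R] [CommRing B] [IsDomain B]
    [IsIntegrallyClosed B] (φ : R →+* B) (hφ : Function.Injective φ)
    (H : ∀ (f : B) (Q : R[X]), Q.Monic → Polynomial.eval₂ φ f Q = 0 → ∃ r, φ r = f) : IsIntegrallyClosed R :=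
  (isIntegrallyClosed_iff (FractionRing R)).2 fun {_} hx =>
    exists_preimage (L := FractionRing B) φ hφ H hx

theorem isIntegrallyClosed_rees {A K : Type u} [CommRing A] [IsDomain A] [IsIntegrallyClosed A] [Field K] [Algebra A K]
    [IsFractionRing A K] (ι : Type) (v : ι → AddValuation K (WithTop ℤ)) (p q : ι → ℕ) (hq : ∀ i, 0 < q i)
    (𝓕 : FiltBl.IdealFiltration A)
    (hF : ∀ (k : ℕ) (x : A), x ∈ 𝓕.F k ↔
      ∀ i, ((k * p i : ℕ) : WithTop ℤ) ≤ (q i : WithTop ℤ) * v i (algebraMap A K x)) :
    IsIntegrallyClosed 𝓕.rees := by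
  let w : ι → AddValuation A (WithTop ℤ) := fun i => (v i).comap (algebraMap A K)
  have htop : ∀ i (a : A), w i a = ⊤ → a = 0 := fun i a h =>
    (IsFractionRing.injective A K) (by rw [map_zero]; exact (AddValuation.top_iff (v i)).1 h)
  have hG : ∀ (k : ℕ) (x : A), x ∈ 𝓕.F k ↔ ∀ i, G (w i) (q i) ((k : ℤ) * p i) x := by
    intro k x
    rw [hF]
    refine forall_congr' fun i => ?_
    cases e : v i (algebraMap A K x) with
    | top =>
      refine iff_of_true (le_of_le_of_eq le_top (WithTop.mul_top ?_).symm) fun z hz => ?_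
      · exact_mod_cast (hq i).ne'
      · exact absurd (e.symm.trans hz) WithTop.top_ne_coe
    | coe z =>
      rw [show ((q i : WithTop ℤ) * (z : WithTop ℤ)) = (((q i : ℤ) * z : ℤ) : WithTop ℤ) by push_cast; rfl,
        show ((k * p i : ℕ) : WithTop ℤ) = (((k : ℤ) * p i : ℤ) : WithTop ℤ) by push_cast; rfl, WithTop.coe_le_coe]
      exact ⟨fun h z' hz' => by
        rw [show z' = z from WithTop.coe_inj.1 (hz'.symm.trans e)]; exact h, fun h => h z e⟩
  refine isIntegrallyClosed_of_injective 𝓕.rees.val.toRingHom Subtype.val_injective fun f Q hQm h2 => ?_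
  have hmem : f ∈ 𝓕.rees := by
    intro n
    rw [hG]
    intro i
    have hroot := P_of_root (w := w i) (q := q i) (p := p i) (htop i) (f := f) (d := Q.natDegree)
      (fun j => (Q.coeff j : A[X])) (fun j m => by
        rw [zero_add]; exact (hG m _).1 ((Q.coeff j).2 m) i) (by
        have := h2
        rw [eval₂_eq_sum_range, Finset.sum_range_succ, hQm.coeff_natDegree, map_one, one_mul, add_comm] at this
        exact this)
    simpa using hroot n
  exact ⟨⟨f, hmem⟩, rfl⟩

end Groth.Agent.ReesIC29
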